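import Groth.Agent.H58.DualSch.Ring
import Groth.Agent.H2.DualCx.PLocalSk
import Groth.Agent.H2.DualCx.PLocalHom
import Groth.Agent.H2.DualCx.PLocalField

/-!
# The bottom cohomology of a dualizing complex is `(S_2)`, non-local form (helper58)

`A` Noetherian with dualizing complex `ω`, `H^i(ω) = 0` for `i < n`.  Then `H^n(ω)` satisfies `(S_2)`.
-/

set_option autoImplicit false
set_option linter.unusedSectionVars false
set_option linter.style.haveILetI false
universe u

open CategoryTheory

attribute [local instance] HasDerivedCategory.standard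

namespace Groth.Agent.H58.DualSch

open Groth.Agent.H2.DualCx

variable {A : Type u} [CommRing A] [IsNoetherianRing A] {ω : Dual.D A}

/-- at a point of `Supp H^n(ω)` (`n` the bottom degree), `dim A_P = n(P) - n`. -/
theorem supportDim_le_of_bottom (hω : Dual.IsDualizing A ω) (n : ℤ)
    (hn : ∀ i : ℤ, i < n → Subsingleton (Dual.HD A ω i)) (P : PrimeSpectrum A)
    (M : Type u) [AddCommGroup M] [Module A M] [Module.Finite A M] (e : ℕ)
    (he : Module.supportDim (Localization.AtPrime P.asIdeal)
      (LocalizedModule P.asIdeal.primeCompl M) = e) :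
    (e : ℤ) ≤ topDeg hω P - n := by
  obtain ⟨eA, rA, heA, -, -, hminA, -, -⟩ := exists_depth_dim hω A P (mem_support_self P)
  have h1 : n ≤ topDeg hω P - eA := by
    by_contra hcon
    push Not at hcon
    haveI := hn _ hcon
    rw [← support_HD_eq_T hω, Module.support_eq_empty] at hminA
    exact hminA
  have h2 : Module.supportDim (Localization.AtPrime P.asIdeal)
      (LocalizedModule P.asIdeal.primeCompl M) ≤ ringKrullDim (Localization.AtPrime P.asIdeal) :=
    Module.supportDim_le_ringKrullDim _ _
  have h3 : ringKrullDim (Localization.AtPrime P.asIdeal) = eA := by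
    rw [← Module.supportDim_self_eq_ringKrullDim]
    exact heA
  rw [he, h3] at h2
  have h4 : e ≤ eA := by exact_mod_cast h2
  omega

/-- **the bottom cohomology module of a dualizing complex satisfies `(S_2)`** -/
theorem hasSk_two_HD_bottom (hω : Dual.IsDualizing A ω) (n : ℤ)
    (hn : ∀ i : ℤ, i < n → Subsingleton (Dual.HD A ω i)) :
    LocCoh.HasSk 2 A (Dual.HD A ω n) := by
  haveI := hω.finite_cohomology n
  have hGE : ω.IsGE n := by
    rw [DerivedCategory.isGE_iff]
    intro i hi
    haveI := hn i hi
    exact ModuleCat.isZero_of_subsingleton _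
  obtain ⟨m, b, -, hLE⟩ := exists_isGE_isLE hω
  intro p hp
  let P : PrimeSpectrum A := ⟨p, hp⟩
  by_cases hP : P ∈ Module.support A (Dual.HD A ω n)
  · obtain ⟨e, r, he, hr, hre, hmin, hmax, hall⟩ := exists_depth_dim hω (Dual.HD A ω n) P hP
    have hen := supportDim_le_of_bottom hω n hn P (Dual.HD A ω n) e he
    change min ((2 : ℕ) : WithBot ℕ∞) (Module.supportDim (Localization.AtPrime P.asIdeal)
      (LocalizedModule P.asIdeal.primeCompl (Dual.HD A ω n))) ≤
      ((LocCoh.depth (Localization.AtPrime P.asIdeal)
        (LocalizedModule P.asIdeal.primeCompl (Dual.HD A ω n)) : ℕ∞) : WithBot ℕ∞)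
    rw [he, hr]
    have key : min 2 e ≤ r := by
      by_contra hcon
      push Not at hcon
      have hr2 : r < 2 := lt_of_lt_of_le hcon (min_le_left _ _)
      have hre' : r < e := lt_of_lt_of_le hcon (min_le_right _ _)
      have hk0 : topDeg hω P - r - n ≠ 0 := by omega
      have hnot := notMem_support_T_bottom ω P n b hGE hLE (topDeg hω P - r - n)
        (hω.ext_self_subsingleton _ hk0)
        (fun q hq => by
          haveI := hω.finite_cohomology q
          exact topDeg_max hω P (Dual.HD A ω q) _ (by omega))
      have e' : topDeg hω P - r - n + n = topDeg hω P - r := by ring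
      rw [e'] at hnot
      exact hnot hmax
    have h1 : min ((2 : ℕ) : WithBot ℕ∞) ((e : ℕ) : WithBot ℕ∞) = ((min 2 e : ℕ) : WithBot ℕ∞) := by
      rcases le_total 2 e with h | h
      · rw [min_eq_left h, min_eq_left (by exact_mod_cast h)]
      · rw [min_eq_right h, min_eq_right (by exact_mod_cast h)]
    rw [h1]
    have h2 : (((min 2 e : ℕ) : ℕ∞) : WithBot ℕ∞) ≤ (((r : ℕ) : ℕ∞) : WithBot ℕ∞) := by
      rw [WithBot.coe_le_coe]
      exact_mod_cast key
    exact h2
  · have : Subsingleton (LocalizedModule p.primeCompl (Dual.HD A ω n)) := by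
      rw [Module.mem_support_iff] at hP
      exact not_nontrivial_iff_subsingleton.mp hP
    rw [Module.supportDim_eq_bot_of_subsingleton]
    simp

end Groth.Agent.H58.DualSch
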