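import Groth.Agent.H58.DualSch.BottomS2
import Groth.Agent.H29.SkAt

/-!
# The bottom cohomology of a dualizing complex over a domain is torsion-free (helper58)

More generally, every associated prime of `H^n(ω)` (`n` the bottom degree) is a minimal prime of `A`.
-/

set_option autoImplicit false
set_option linter.unusedSectionVars false
set_option linter.style.haveILetI false
universe u

open CategoryTheory

attribute [local instance] HasDerivedCategory.standard

namespace Groth.Agent.H58.DualSch

open Groth.Agent.H2.DualCx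

variable {A : Type u} [CommRing A] [IsNoetherianRing A] {ω : Dual.D A}

/-- associated primes of the bottom cohomology module have height zero -/
theorem height_eq_zero_of_mem_associatedPrimes_HD_bottom (hω : Dual.IsDualizing A ω) (n : ℤ)
    (hn : ∀ i : ℤ, i < n → Subsingleton (Dual.HD A ω i)) (q : Ideal A) [hq : q.IsPrime]
    (hqA : q ∈ associatedPrimes A (Dual.HD A ω n)) : q.height = 0 := by
  haveI := hω.finite_cohomology n
  have hGE : ω.IsGE n := by
    rw [DerivedCategory.isGE_iff]
    intro i hi
    haveI := hn i hi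
    exact ModuleCat.isZero_of_subsingleton _
  obtain ⟨m, b, -, hLE⟩ := exists_isGE_isLE hω
  let Q : PrimeSpectrum A := ⟨q, hq⟩
  have hdep := Groth.Agent.H29.SkAt.depth_eq_zero_of_mem_associatedPrimes A (Dual.HD A ω n) q hqA
  have hQ : Q ∈ Module.support A (Dual.HD A ω n) := by
    rw [AssociatedPrimes.mem_iff, isAssociatedPrime_iff] at hqA
    obtain ⟨-, x, hx⟩ := hqA
    rw [Module.mem_support_iff']
    refine ⟨x, fun r hr h0 => hr ?_⟩
    change r ∈ q
    rw [hx, Submodule.mem_colon_singleton, Submodule.mem_bot]
    exact h0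
  obtain ⟨e, r, he, hr, hre, hmin, hmax, hall⟩ := exists_depth_dim hω (Dual.HD A ω n) Q hQ
  have hr0 : r = 0 := by
    have : LocCoh.depth (Localization.AtPrime Q.asIdeal)
        (LocalizedModule Q.asIdeal.primeCompl (Dual.HD A ω n)) = 0 := hdep
    rw [hr] at this
    exact_mod_cast this
  subst hr0
  have htop : topDeg hω Q = n := by
    by_contra hne
    have hk0 : topDeg hω Q - n ≠ 0 := by omega
    have hnot := notMem_support_T_bottom ω Q n b hGE hLE (topDeg hω Q - n)
      (hω.ext_self_subsingleton _ hk0)
      (fun q' hq' => by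
        haveI := hω.finite_cohomology q'
        exact topDeg_max hω Q (Dual.HD A ω q') _ (by omega))
    have e' : topDeg hω Q - n + n = topDeg hω Q - ((0 : ℕ) : ℤ) := by push_cast; ring
    rw [e'] at hnot
    exact hnot hmax
  obtain ⟨eA, rA, heA, -, -, -, -, -⟩ := exists_depth_dim hω A Q (mem_support_self Q)
  have h1 := supportDim_le_of_bottom hω n hn Q A eA heA
  have heA0 : eA = 0 := by omega
  have h3 : ringKrullDim (Localization.AtPrime Q.asIdeal) = eA := by
    rw [← Module.supportDim_self_eq_ringKrullDim]
    exact heA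
  rw [IsLocalization.AtPrime.ringKrullDim_eq_height Q.asIdeal (Localization.AtPrime Q.asIdeal),
    heA0] at h3
  have h4 : (q.height : WithBot ℕ∞) = ((0 : ℕ∞) : WithBot ℕ∞) := by exact_mod_cast h3
  exact_mod_cast h4

/-- over a domain, the bottom cohomology module of a dualizing complex is torsion-free -/
theorem isTorsionFree_HD_bottom [IsDomain A] (hω : Dual.IsDualizing A ω) (n : ℤ)
    (hn : ∀ i : ℤ, i < n → Subsingleton (Dual.HD A ω i)) :
    Module.IsTorsionFree A (Dual.HD A ω n) := by
  refine ⟨fun a ha y y' hyy' => ?_⟩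
  by_contra hne
  have hz : y - y' ≠ 0 := sub_ne_zero.mpr hne
  obtain ⟨P, hP, hle⟩ := exists_le_isAssociatedPrime_of_isNoetherianRing A (y - y') hz
  haveI : P.IsPrime := hP.isPrime
  have h0 := height_eq_zero_of_mem_associatedPrimes_HD_bottom hω n hn P
    ((AssociatedPrimes.mem_iff).mpr hP)
  have hbot : P = ⊥ := Ideal.height_eq_zero_iff_eq_bot.mp h0
  have haP : a ∈ P := by
    apply hle
    rw [Submodule.mem_colon_singleton, Submodule.mem_bot, smul_sub]
    exact sub_eq_zero.mpr hyy'
  rw [hbot] at haP
  exact ha.ne_zero ((Submodule.mem_bot A).mp haP)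

end Groth.Agent.H58.DualSch
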