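import Groth.Agent.H58.DualSch.BottomTF
import Groth.Agent.H29.LocTrans

/-!
# Torsion-freeness of the localized bottom cohomology when the local ring is a domain (helper58)
-/

set_option autoImplicit false
set_option linter.unusedSectionVars false
set_option linter.style.haveILetI false
universe u

open CategoryTheory

attribute [local instance] HasDerivedCategory.standard

namespace Groth.Agent.H58.DualSch

open Groth.Agent.H2.DualCx

variable {A : Type u} [CommRing A] [IsNoetherianRing A] {ω : Dual.D A}

/-- if `A_p` is a domain, the localization at `p` of the bottom cohomology module of a dualizing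
complex is torsion-free over `A_p` -/
theorem isTorsionFree_localized_HD_bottom (hω : Dual.IsDualizing A ω) (n : ℤ)
    (hn : ∀ i : ℤ, i < n → Subsingleton (Dual.HD A ω i)) (p : Ideal A) [p.IsPrime]
    [IsDomain (Localization.AtPrime p)] :
    Module.IsTorsionFree (Localization.AtPrime p)
      (LocalizedModule p.primeCompl (Dual.HD A ω n)) := by
  haveI := hω.finite_cohomology n
  haveI : IsNoetherianRing (Localization.AtPrime p) :=
    IsLocalization.isNoetherianRing p.primeCompl _ inferInstance
  haveI : Module.Finite (Localization.AtPrime p) (LocalizedModule p.primeCompl (Dual.HD A ω n)) :=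
    Module.Finite.of_isLocalizedModule p.primeCompl
      (LocalizedModule.mkLinearMap p.primeCompl (Dual.HD A ω n))
  refine ⟨fun a ha y y' hyy' => ?_⟩
  by_contra hne
  have hz : y - y' ≠ 0 := sub_ne_zero.mpr hne
  obtain ⟨P', hP', hle⟩ := exists_le_isAssociatedPrime_of_isNoetherianRing
    (Localization.AtPrime p) (y - y') hz
  haveI : P'.IsPrime := hP'.isPrime
  have haP : a ∈ P' := by
    apply hle
    rw [Submodule.mem_colon_singleton, Submodule.mem_bot, smul_sub]
    exact sub_eq_zero.mpr hyy'
  have hd0 := Groth.Agent.H29.SkAt.depth_eq_zero_of_mem_associatedPrimes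
    (Localization.AtPrime p) (LocalizedModule p.primeCompl (Dual.HD A ω n)) P'
    ((AssociatedPrimes.mem_iff).mpr hP')
  rw [Groth.Agent.H29.LocTrans.depth_localization_localization p.primeCompl
    (Dual.HD A ω n) P'] at hd0
  have hPass := Groth.Agent.H29.SkAt.mem_associatedPrimes_of_depth_eq_zero A (Dual.HD A ω n)
    (P'.comap (algebraMap A (Localization.AtPrime p))) hd0
  have hht := height_eq_zero_of_mem_associatedPrimes_HD_bottom hω n hn
    (P'.comap (algebraMap A (Localization.AtPrime p))) hPass
  rw [Ideal.height_eq_zero_iff] at hht
  haveI : (⊥ : Ideal (Localization.AtPrime p)).IsPrime := Ideal.isPrime_bot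
  have hle2 : P'.comap (algebraMap A (Localization.AtPrime p)) ≤
      (⊥ : Ideal (Localization.AtPrime p)).comap (algebraMap A (Localization.AtPrime p)) :=
    hht.2 ⟨Ideal.comap_isPrime _ _, bot_le⟩ (Ideal.comap_mono bot_le)
  have hP'bot : P' = ⊥ := by
    rw [← IsLocalization.map_under p.primeCompl (Localization.AtPrime p) P', eq_bot_iff,
      ← IsLocalization.map_under p.primeCompl (Localization.AtPrime p)
        (⊥ : Ideal (Localization.AtPrime p))]
    exact Ideal.map_mono hle2
  rw [hP'bot] at haP
  exact ha.ne_zero ((Submodule.mem_bot _).mp haP)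

end Groth.Agent.H58.DualSch
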