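import Groth.Agent.H6.RestrictStalk
import Groth.Agent.H49.CMLocalize

/-!
# Cohen–Macaulayness of stalks on affine charts (helper58)
-/

set_option autoImplicit false
set_option linter.unusedSectionVars false
universe u

open CategoryTheory CategoryTheory.Limits AlgebraicGeometry

namespace Groth.Agent.H58.DualSch

/-- the stalk of `Spec R` at `p` is isomorphic to the localization at `p` -/
noncomputable def specStalkEquiv (R : CommRingCat.{u}) (p : PrimeSpectrum R) :
    (Spec (CommRingCat.of R)).presheaf.stalk p ≃+* Localization.AtPrime p.asIdeal :=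
  (IsLocalization.algEquiv p.asIdeal.primeCompl
    ((Spec.structureSheaf R).presheaf.stalk p) (Localization.AtPrime p.asIdeal)).toRingEquiv

/-- for an open immersion `j : Spec R ⟶ X`, `O_{X, j p}` is Cohen–Macaulay iff `R_p` is -/
theorem cm_stalk_iff {X : Scheme.{u}} (R : CommRingCat.{u})
    (j : Spec (CommRingCat.of R) ⟶ X) [IsOpenImmersion j] (p : PrimeSpectrum R) :
    LocCoh.IsCohenMacaulayLocalRing (X.presheaf.stalk (j p)) ↔
      LocCoh.IsCohenMacaulayLocalRing (Localization.AtPrime p.asIdeal) := by
  let e : X.presheaf.stalk (j p) ≃+* Localization.AtPrime p.asIdeal :=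
    (Groth.Agent.H6.RestrictStalk.stalkRingEquiv j p).symm.trans (specStalkEquiv R p)
  exact ⟨Groth.Agent.H49.isCohenMacaulayLocalRing_of_ringEquiv e,
    Groth.Agent.H49.isCohenMacaulayLocalRing_of_ringEquiv e.symm⟩

end Groth.Agent.H58.DualSch
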