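import Groth.Agent.H28.DualSelf
import Groth.Agent.H2.GorensteinGlobal
import Groth.Agent.H2.DualCx.FinDim

/-!
# A Gorenstein ring with a dualizing complex has `A[0]` as dualizing complex (helper58)
-/

set_option autoImplicit false
set_option linter.unusedSectionVars false
set_option linter.style.haveILetI false
universe u

open CategoryTheory

attribute [local instance] HasDerivedCategory.standard

namespace Groth.Agent.H58.DualSch

theorem isDualizing_self_of_gorenstein {A : Type u} [CommRing A] [IsNoetherianRing A]
    {ω : Dual.D A} (hω : Dual.IsDualizing A ω)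
    (hG : ∀ (p : Ideal A) [p.IsPrime], LocCoh.IsGorensteinLocalRing (Localization.AtPrime p)) :
    Dual.IsDualizing A (Dual.inD A A) := by
  haveI : LocCoh.IsGorensteinRing A := { isGorensteinLocalRing_localization := hG }
  have hlt := Groth.Agent.H2.DualCx.ringKrullDim_lt_top_of_isDualizing hω
  obtain ⟨d, hd⟩ : ∃ d : ℕ, ringKrullDim A ≤ d := by
    cases h : ringKrullDim A with
    | bot => exact ⟨0, bot_le⟩
    | coe x =>
      cases hx : x with
      | top => rw [h, hx] at hlt; exact absurd hlt (lt_irrefl _)
      | coe n => exact ⟨n, le_rfl⟩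
  exact Groth.Agent.H28.DualSelf.isDualizing_self A (d + 1)
    (Groth.Agent.H2.GorensteinGlobal.hasInjectiveDimensionLT_of_isGorensteinRing A d hd)

end Groth.Agent.H58.DualSch
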