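import Groth.Agent.H58.DualSch.Stalk

/-!
# Stalks of cohomology sheaves, continued (helper58)
-/

set_option autoImplicit false
set_option linter.unusedSectionVars false
universe u

open CategoryTheory CategoryTheory.Limits AlgebraicGeometry

attribute [local instance] HasDerivedCategory.standard

namespace Groth.Agent.H58.DualSch

section
variable {X : Scheme.{u}} (R : CommRingCat.{u})
  (j : Spec (CommRingCat.of R) ⟶ X) [IsOpenImmersion j]
  [PreservesFiniteLimits (Scheme.Modules.restrictFunctor j)]
  [PreservesFiniteLimits (tilde.functor R)]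
  (K : DCoh.D X) (ω : DerivedCategory (ModuleCat.{u} R))
  (e : (DCoh.restrictD j).obj K ≅ (DCoh.tildeD R).obj ω)

include e in
/-- the stalk of `H^i(K)` at `j p` is nontrivial iff `p ∈ Supp H^i(ω)` -/
theorem nontrivial_stalk_HD_iff (i : ℤ) (p : PrimeSpectrum R) :
    Nontrivial ((DCoh.HD K i).presheaf.stalk (j p)) ↔
      p ∈ Module.support R ((DerivedCategory.homologyFunctor (ModuleCat.{u} R) i).obj ω) := by
  refine Iff.trans ?_ (nontrivial_stalk_tilde_iff R _ p)
  refine Iff.trans (Groth.Agent.H6.RestrictStalk.stalkAddEquiv j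
    (DCoh.HD K i) p).toEquiv.nontrivial_congr.symm ?_
  exact ((Groth.Agent.H5.Stalk.stalkFunctor (X := Spec (CommRingCat.of R)) p).mapIso
    (HDIso R j K ω e i)).toLinearEquiv.toEquiv.nontrivial_congr

end

end Groth.Agent.H58.DualSch
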