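import Groth.Agent.H58.DualSch.Ring
import Groth.Agent.H58.DualSch.Stalk2
import Groth.Agent.H58.DualSch.CMStalk

/-!
# Cohen–Macaulay locus of a scheme with a dualizing complex (helper58)
-/

set_option autoImplicit false
set_option linter.unusedSectionVars false
universe u

open CategoryTheory CategoryTheory.Limits AlgebraicGeometry

attribute [local instance] HasDerivedCategory.standard

namespace Groth.Agent.H58.DualSch

section
variable (X : Scheme.{u})
  [∀ (U : Scheme.{u}) (j : U ⟶ X) [IsOpenImmersion j],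
    PreservesFiniteLimits (Scheme.Modules.restrictFunctor j)]
  [∀ (R : CommRingCat.{u}), PreservesFiniteLimits (tilde.functor R)]
  (ω : DCoh.D X) (hω : Dual2.IsDualizingSch X ω)

include hω in
/-- on an affine chart `j : Spec R ⟶ X`, at the point `j p`: Cohen–Macaulay iff exactly one
cohomology sheaf of `ω` has nonzero stalk -/
theorem cm_iff_chart (R : CommRingCat.{u}) (j : Spec (CommRingCat.of R) ⟶ X) [IsOpenImmersion j]
    (p : PrimeSpectrum R) :
    (LocCoh.IsCohenMacaulayLocalRing (X.presheaf.stalk (j p)) ↔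
      ∃! i : ℤ, Nontrivial ((DCoh.HD ω i).presheaf.stalk (j p))) ∧
    IsOpen {q : PrimeSpectrum R |
      LocCoh.IsCohenMacaulayLocalRing (Localization.AtPrime q.asIdeal)} := by
  obtain ⟨ωA, hωA, ⟨e⟩⟩ := hω R j
  haveI : IsNoetherianRing R := hωA.isNoetherianRing
  refine ⟨?_, isOpen_cm hωA⟩
  rw [cm_stalk_iff R j p, cm_iff_existsUnique hωA p]
  refine existsUnique_congr (fun i => ?_)
  exact (nontrivial_stalk_HD_iff R j ω ωA e i p).symm

include hω in
theorem main1809 :
    (∀ x : X, LocCoh.IsCohenMacaulayLocalRing (X.presheaf.stalk x) ↔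
      ∃! i : ℤ, Nontrivial ((DCoh.HD ω i).presheaf.stalk x)) ∧
    IsOpen {x : X | LocCoh.IsCohenMacaulayLocalRing (X.presheaf.stalk x)} := by
  have hx : ∀ x : X, ∃ (R : CommRingCat.{u}) (j : Spec (CommRingCat.of R) ⟶ X)
      (_ : IsOpenImmersion j) (p : PrimeSpectrum R), j p = x := by
    intro x
    obtain ⟨W, hW, hxW, -⟩ := exists_isAffineOpen_mem_and_subset (x := x) (U := ⊤) trivial
    exact ⟨Γ(X, W), hW.fromSpec, inferInstance, hW.primeIdealOf ⟨x, hxW⟩,
      hW.fromSpec_primeIdealOf ⟨x, hxW⟩⟩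
  constructor
  · intro x
    obtain ⟨R, j, hj, p, rfl⟩ := hx x
    exact (cm_iff_chart X ω hω R j p).1
  · rw [isOpen_iff_forall_mem_open]
    intro x hxCM
    obtain ⟨R, j, hj, p, rfl⟩ := hx x
    refine ⟨j '' {q : PrimeSpectrum R |
      LocCoh.IsCohenMacaulayLocalRing (Localization.AtPrime q.asIdeal)}, ?_, ?_, ?_⟩
    · rintro _ ⟨q, hq, rfl⟩
      exact (cm_stalk_iff R j q).2 hq
    · exact j.isOpenEmbedding.isOpenMap _ (cm_iff_chart X ω hω R j p).2
    · exact ⟨p, (cm_stalk_iff R j p).1 hxCM, rfl⟩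

end

end Groth.Agent.H58.DualSch
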