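import Groth.Prelude.Def_DualSch
import Groth.Agent.H58.DualSch.CMStalk
import Groth.Agent.H26.GorRegHom
import Groth.Agent.S0373

/-!
# Gorenstein locus of a scheme with a dualizing complex is open (helper58)
-/

set_option autoImplicit false
set_option linter.unusedSectionVars false
universe u

open CategoryTheory CategoryTheory.Limits AlgebraicGeometry

attribute [local instance] HasDerivedCategory.standard

namespace Groth.Agent.H58.DualSch

/-- the ring isomorphism `O_{X, j p} ≃ R_p` on a chart -/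
noncomputable def chartStalkEquiv {X : Scheme.{u}} (R : CommRingCat.{u})
    (j : Spec (CommRingCat.of R) ⟶ X) [IsOpenImmersion j] (p : PrimeSpectrum R) :
    X.presheaf.stalk (j p) ≃+* Localization.AtPrime p.asIdeal :=
  (Groth.Agent.H6.RestrictStalk.stalkRingEquiv j p).symm.trans (specStalkEquiv R p)

theorem gor_stalk_iff {X : Scheme.{u}} (R : CommRingCat.{u})
    (j : Spec (CommRingCat.of R) ⟶ X) [IsOpenImmersion j] (p : PrimeSpectrum R) :
    LocCoh.IsGorensteinLocalRing (X.presheaf.stalk (j p)) ↔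
      LocCoh.IsGorensteinLocalRing (Localization.AtPrime p.asIdeal) :=
  ⟨Groth.Agent.H26.GorRegHom.isGorensteinLocalRing_of_ringEquiv (chartStalkEquiv R j p),
    Groth.Agent.H26.GorRegHom.isGorensteinLocalRing_of_ringEquiv (chartStalkEquiv R j p).symm⟩

section
variable (X : Scheme.{u})
  [∀ (U : Scheme.{u}) (j : U ⟶ X) [IsOpenImmersion j],
    PreservesFiniteLimits (Scheme.Modules.restrictFunctor j)]
  [∀ (R : CommRingCat.{u}), PreservesFiniteLimits (tilde.functor R)]
  (K : DCoh.D X) (hK : Dual2.IsDualizingSch X K)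

include hK in
theorem main3621 :
    IsOpen {x : X | LocCoh.IsGorensteinLocalRing (X.presheaf.stalk x)} := by
  rw [isOpen_iff_forall_mem_open]
  intro x hxG
  obtain ⟨W, hW, hxW, -⟩ := exists_isAffineOpen_mem_and_subset (x := x) (U := ⊤) trivial
  obtain ⟨ωA, hωA, -⟩ := hK Γ(X, W) hW.fromSpec
  haveI : IsNoetherianRing Γ(X, W) := hωA.isNoetherianRing
  have hx : hW.fromSpec (hW.primeIdealOf ⟨x, hxW⟩) = x := hW.fromSpec_primeIdealOf ⟨x, hxW⟩
  refine ⟨hW.fromSpec '' {q : PrimeSpectrum Γ(X, W) |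
    LocCoh.IsGorensteinLocalRing (Localization.AtPrime q.asIdeal)}, ?_, ?_, ?_⟩
  · rintro _ ⟨q, hq, rfl⟩
    exact (gor_stalk_iff Γ(X, W) hW.fromSpec q).2 hq
  · exact hW.fromSpec.isOpenEmbedding.isOpenMap _ (Groth.Agent.S0373.result Γ(X, W) ωA hωA)
  · refine ⟨hW.primeIdealOf ⟨x, hxW⟩, ?_, hx⟩
    apply (gor_stalk_iff Γ(X, W) hW.fromSpec (hW.primeIdealOf ⟨x, hxW⟩)).1
    rw [hx]
    exact hxG

end

end Groth.Agent.H58.DualSch
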