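import Groth.Agent.H58.DualSch.Stalk
import Groth.Agent.H8.AssPoints

/-!
# Restricting `M~` to an open subscheme of `Spec R` away from the support (helper58)
-/

set_option autoImplicit false
set_option linter.unusedSectionVars false
universe u

open CategoryTheory CategoryTheory.Limits AlgebraicGeometry

namespace Groth.Agent.H58.DualSch

section
variable {V : Scheme.{u}} (R : CommRingCat.{u}) (κ : V ⟶ Spec (CommRingCat.of R))
  [IsOpenImmersion κ]

/-- if the image of `κ` misses the support of `N`, then `κ^* (N~) = 0` -/
theorem isZero_restrict_tilde [PreservesFiniteLimits (tilde.functor R)] (N : ModuleCat.{u} R)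
    (h : ∀ v : V, κ v ∉ Module.support R N) :
    IsZero ((Scheme.Modules.restrictFunctor κ).obj ((tilde.functor R).obj N)) := by
  rw [Groth.Agent.H8.isZero_iff_forall_subsingleton_stalk]
  intro v
  have h1 : ¬ Nontrivial ((tilde N).presheaf.stalk (κ v)) :=
    fun hn => h v ((nontrivial_stalk_tilde_iff R N (κ v)).1 hn)
  rw [not_nontrivial_iff_subsingleton] at h1
  exact (Groth.Agent.H6.RestrictStalk.stalkAddEquiv κ (tilde N) v).toEquiv.subsingleton

/-- if the image of `κ` misses the supports of the kernel and cokernel of `φ`, then `κ^* (φ~)` is an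
isomorphism -/
theorem isIso_restrict_tilde_map [PreservesFiniteLimits (Scheme.Modules.restrictFunctor κ)]
    [PreservesFiniteLimits (tilde.functor R)] {M N : ModuleCat.{u} R} (φ : M ⟶ N)
    (hker : ∀ v : V, κ v ∉ Module.support R (kernel φ : ModuleCat.{u} R))
    (hcoker : ∀ v : V, κ v ∉ Module.support R (cokernel φ : ModuleCat.{u} R)) :
    IsIso ((Scheme.Modules.restrictFunctor κ).map ((tilde.functor R).map φ)) := by
  let G := tilde.functor R ⋙ Scheme.Modules.restrictFunctor κ
  haveI : PreservesFiniteLimits G := comp_preservesFiniteLimits _ _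
  haveI : PreservesFiniteColimits G := comp_preservesFiniteColimits _ _
  have hk : IsZero (kernel (G.map φ)) :=
    IsZero.of_iso (isZero_restrict_tilde R κ _ hker) (PreservesKernel.iso G φ).symm
  have hc : IsZero (cokernel (G.map φ)) :=
    IsZero.of_iso (isZero_restrict_tilde R κ _ hcoker) (PreservesCokernel.iso G φ).symm
  haveI : Mono (G.map φ) := Preadditive.mono_of_isZero_kernel _ hk
  haveI : Epi (G.map φ) := Preadditive.epi_of_isZero_cokernel _ hc
  exact isIso_of_mono_of_epi (G.map φ)

end

section
variable {V Y X : Scheme.{u}} (a : V ⟶ Y) (b : Y ⟶ X) (c : V ⟶ X)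
  [IsOpenImmersion a] [IsOpenImmersion b] [IsOpenImmersion c]

/-- restriction along a composite -/
noncomputable def restrictFactorIso (h : a ≫ b = c) (F : X.Modules) :
    (Scheme.Modules.restrictFunctor c).obj F ≅
      (Scheme.Modules.restrictFunctor a).obj ((Scheme.Modules.restrictFunctor b).obj F) :=
  (Scheme.Modules.restrictFunctorCongr h.symm ≪≫ Scheme.Modules.restrictFunctorComp a b).app F

end

end Groth.Agent.H58.DualSch
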