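import Mathlib

/-!
# Objects of a derived category with cohomology in a single degree (helper58)
-/

set_option autoImplicit false
universe w v u

open CategoryTheory CategoryTheory.Limits

namespace Groth.Agent.H58.DualSch

section
variable {C : Type u} [Category.{v} C] [Abelian C] [HasDerivedCategory.{w} C]

/-- `(Y placed in degree 0)⟦k⟧ ≅ Y placed in degree -k` -/
noncomputable def shiftSingleIso (Y : C) (k : ℤ) :
    ((DerivedCategory.singleFunctor C 0).obj Y)⟦k⟧ ≅ (DerivedCategory.singleFunctor C (-k)).obj Y :=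
  ((DerivedCategory.singleFunctors C).shiftIso k (-k) 0 (by omega)).app Y

/-- an object with cohomology `Y` in the single degree `-k` is `Y[k]` -/
theorem nonempty_iso_shift_single (K : DerivedCategory C) (k : ℤ) (Y : C)
    (hvan : ∀ i : ℤ, i ≠ -k → IsZero ((DerivedCategory.homologyFunctor C i).obj K))
    (e : (DerivedCategory.homologyFunctor C (-k)).obj K ≅ Y) :
    Nonempty (K ≅ ((DerivedCategory.singleFunctor C 0).obj Y)⟦k⟧) := by
  have hGE : K.IsGE (-k) := (DerivedCategory.isGE_iff K (-k)).2 (fun i hi => hvan i (by omega))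
  have hLE : K.IsLE (-k) := (DerivedCategory.isLE_iff K (-k)).2 (fun i hi => hvan i (by omega))
  obtain ⟨Y', ⟨eY⟩⟩ := DerivedCategory.exists_iso_singleFunctor_obj_of_isGE_of_isLE K (-k)
  have eH : (DerivedCategory.homologyFunctor C (-k)).obj K ≅ Y' :=
    (DerivedCategory.homologyFunctor C (-k)).mapIso eY ≪≫
      (DerivedCategory.singleFunctorCompHomologyFunctorIso C (-k)).app Y'
  exact ⟨eY ≪≫ (DerivedCategory.singleFunctor C (-k)).mapIso (eH.symm ≪≫ e) ≪≫
    (shiftSingleIso Y k).symm⟩

/-- the cohomology of `Y[k]` vanishes outside degree `-k` -/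
theorem isZero_homology_shift_single (Y : C) (k i : ℤ) (hi : i ≠ -k) :
    IsZero ((DerivedCategory.homologyFunctor C i).obj
      (((DerivedCategory.singleFunctor C 0).obj Y)⟦k⟧)) := by
  refine IsZero.of_iso ?_ ((DerivedCategory.homologyFunctor C i).mapIso (shiftSingleIso Y k))
  rcases lt_or_gt_of_ne hi with h | h
  · exact DerivedCategory.isZero_of_isGE _ (-k) i h
  · exact DerivedCategory.isZero_of_isLE _ (-k) i h

/-- the cohomology of `Y[k]` in degree `-k` is `Y` -/
noncomputable def homologyShiftSingleIso (Y : C) (k : ℤ) :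
    (DerivedCategory.homologyFunctor C (-k)).obj
      (((DerivedCategory.singleFunctor C 0).obj Y)⟦k⟧) ≅ Y :=
  (DerivedCategory.homologyFunctor C (-k)).mapIso (shiftSingleIso Y k) ≪≫
    (DerivedCategory.singleFunctorCompHomologyFunctorIso C (-k)).app Y

end

end Groth.Agent.H58.DualSch
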