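import Groth.Agent.H58.DualSch.Spread
import Groth.Agent.H58.DualSch.RestrictTilde
import Groth.Agent.H58.DualSch.SingleDeg
import Groth.Agent.H58.DualSch.Main3621
import Groth.Prelude.Def_Dual3

/-!
# A dualizing complex on a Gorenstein scheme is invertible (helper58)
-/

set_option autoImplicit false
set_option linter.unusedSectionVars false
set_option linter.style.haveILetI false
universe u

open CategoryTheory CategoryTheory.Limits AlgebraicGeometry

attribute [local instance] HasDerivedCategory.standard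

namespace Groth.Agent.H58.DualSch

section
variable (X : Scheme.{u}) [IsLocallyNoetherian X]
  [∀ (U V : Scheme.{u}) (j : U ⟶ V) [IsOpenImmersion j],
    PreservesFiniteLimits (Scheme.Modules.restrictFunctor j)]
  [∀ (R : CommRingCat.{u}), PreservesFiniteLimits (tilde.functor R)]
  (K : DCoh.D X) (hK : Dual2.IsDualizingSch X K)

include hK in
theorem invertible_of_gorenstein (hG : Dual3.IsGorenstein X) : Dual3.IsInvertibleD K := by
  intro x
  obtain ⟨W, hW, hxW, -⟩ := exists_isAffineOpen_mem_and_subset (x := x) (U := ⊤) trivial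
  obtain ⟨ωA, hωA, ⟨e⟩⟩ := hK Γ(X, W) hW.fromSpec
  haveI : IsNoetherianRing Γ(X, W) := hωA.isNoetherianRing
  have hx : hW.fromSpec (hW.primeIdealOf ⟨x, hxW⟩) = x := hW.fromSpec_primeIdealOf ⟨x, hxW⟩
  have hp : LocCoh.IsGorensteinLocalRing
      (Localization.AtPrime (hW.primeIdealOf ⟨x, hxW⟩).asIdeal) := by
    apply (gor_stalk_iff Γ(X, W) hW.fromSpec (hW.primeIdealOf ⟨x, hxW⟩)).1
    rw [hx]
    exact hG.2 x
  obtain ⟨k, φ, D, hDo, hpD, hD⟩ := exists_spread ωA hωA _ hp
  let Do : (Spec Γ(X, W)).Opens := ⟨D, hDo⟩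
  let U : X.Opens := hW.fromSpec ''ᵁ Do
  refine ⟨U, k, ⟨_, hpD, hx⟩, ?_⟩
  have hrange : Set.range U.ι ⊆ Set.range hW.fromSpec := by
    rintro _ ⟨u, rfl⟩
    obtain ⟨q, -, hq⟩ := u.2
    exact ⟨q, hq⟩
  let κ : (U : Scheme.{u}) ⟶ Spec Γ(X, W) := IsOpenImmersion.lift hW.fromSpec U.ι hrange
  have hκ : κ ≫ hW.fromSpec = U.ι := IsOpenImmersion.lift_fac _ _ _
  haveI : IsOpenImmersion (κ ≫ hW.fromSpec) := by rw [hκ]; infer_instance
  haveI : IsOpenImmersion κ := IsOpenImmersion.of_comp κ hW.fromSpec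
  have hκD : ∀ u : U, κ u ∈ D := by
    intro u
    obtain ⟨q, hqD, hq⟩ := u.2
    have h1 : hW.fromSpec (κ u) = u.1 := by
      rw [← Scheme.Hom.comp_apply, hκ]
      rfl
    have h2 : κ u = q := hW.fromSpec.isOpenEmbedding.injective (h1.trans hq.symm)
    rw [h2]
    exact hqD
  -- cohomology sheaves of the restriction
  have e1 : ∀ i : ℤ, DCoh.HD ((DCoh.restrictD U.ι).obj K) i ≅
      (Scheme.Modules.restrictFunctor κ).obj ((tilde.functor Γ(X, W)).obj
        ((DerivedCategory.homologyFunctor (ModuleCat.{u} Γ(X, W)) i).obj ωA)) := fun i =>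
    (Groth.Agent.H16.ExactDer.homologyNatIso (Scheme.Modules.restrictFunctor U.ι) i).app K ≪≫
      restrictFactorIso κ hW.fromSpec U.ι hκ (DCoh.HD K i) ≪≫
      (Scheme.Modules.restrictFunctor κ).mapIso (HDIso Γ(X, W) hW.fromSpec K ωA e i)
  apply nonempty_iso_shift_single
  · intro i hi
    refine IsZero.of_iso ?_ (e1 i)
    exact isZero_restrict_tilde Γ(X, W) κ _ (fun v => (hD _ (hκD v)).1 i hi)
  · let φ' : ModuleCat.of Γ(X, W) Γ(X, W) ⟶
        (DerivedCategory.homologyFunctor (ModuleCat.{u} Γ(X, W)) (-k)).obj ωA := ModuleCat.ofHom φ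
    haveI : IsIso ((Scheme.Modules.restrictFunctor κ).map ((tilde.functor Γ(X, W)).map φ')) := by
      apply isIso_restrict_tilde_map
      · intro v
        rw [(ModuleCat.kernelIsoKer φ').toLinearEquiv.support_eq]
        exact (hD _ (hκD v)).2.1
      · intro v
        rw [(ModuleCat.cokernelIsoRangeQuotient φ').toLinearEquiv.support_eq]
        exact (hD _ (hκD v)).2.2
    exact e1 (-k) ≪≫
      (asIso ((Scheme.Modules.restrictFunctor κ).map ((tilde.functor Γ(X, W)).map φ'))).symm ≪≫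
      (Scheme.Modules.restrictFunctor κ).mapIso (tildeSelf (R := Γ(X, W))) ≪≫
      Scheme.Modules.restrictUnitIso κ

end

end Groth.Agent.H58.DualSch
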