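import Groth.Agent.H58.DualSch.Main3620a

/-!
# A scheme with an invertible dualizing complex is Gorenstein (helper58)
-/

set_option autoImplicit false
set_option linter.unusedSectionVars false
set_option linter.style.haveILetI false
universe u

open CategoryTheory CategoryTheory.Limits AlgebraicGeometry TensorProduct

attribute [local instance] HasDerivedCategory.standard

namespace Groth.Agent.H58.DualSch

section
variable (X : Scheme.{u}) [IsLocallyNoetherian X]
  [∀ (U V : Scheme.{u}) (j : U ⟶ V) [IsOpenImmersion j],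
    PreservesFiniteLimits (Scheme.Modules.restrictFunctor j)]
  [∀ (R : CommRingCat.{u}), PreservesFiniteLimits (tilde.functor R)]
  (K : DCoh.D X) (hK : Dual2.IsDualizingSch X K)

include hK in
theorem gorenstein_of_invertible (hI : Dual3.IsInvertibleD K) : Dual3.IsGorenstein X := by
  refine ⟨inferInstance, fun x => ?_⟩
  obtain ⟨U, n, hxU, ⟨α⟩⟩ := hI x
  obtain ⟨W, hW, hxW, hWU⟩ := exists_isAffineOpen_mem_and_subset (x := x) (U := U) hxU
  obtain ⟨ωA, hωA, ⟨e⟩⟩ := hK Γ(X, W) hW.fromSpec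
  haveI : IsNoetherianRing Γ(X, W) := hωA.isNoetherianRing
  have hx : hW.fromSpec (hW.primeIdealOf ⟨x, hxW⟩) = x := hW.fromSpec_primeIdealOf ⟨x, hxW⟩
  rw [← hx]
  apply (gor_stalk_iff Γ(X, W) hW.fromSpec (hW.primeIdealOf ⟨x, hxW⟩)).2
  rw [Groth.Agent.H28.GorLocus.gorenstein_at_iff ωA hωA]
  have hrange : Set.range hW.fromSpec ⊆ Set.range U.ι := by
    rw [hW.range_fromSpec, Scheme.Opens.range_ι]
    exact hWU
  let κ : Spec Γ(X, W) ⟶ (U : Scheme.{u}) := IsOpenImmersion.lift U.ι hW.fromSpec hrange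
  have hκ : κ ≫ U.ι = hW.fromSpec := IsOpenImmersion.lift_fac _ _ _
  haveI : IsOpenImmersion (κ ≫ U.ι) := by rw [hκ]; infer_instance
  haveI : IsOpenImmersion κ := IsOpenImmersion.of_comp κ U.ι
  have e1 : ∀ i : ℤ, (tilde.functor Γ(X, W)).obj
      ((DerivedCategory.homologyFunctor (ModuleCat.{u} Γ(X, W)) i).obj ωA) ≅
      (Scheme.Modules.restrictFunctor κ).obj (DCoh.HD
        ((DCoh.inD (U : Scheme.{u}) (Coh.structureModule (U : Scheme.{u})))⟦n⟧) i) := fun i =>
    (HDIso Γ(X, W) hW.fromSpec K ωA e i).symm ≪≫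
      restrictFactorIso κ U.ι hW.fromSpec hκ (DCoh.HD K i) ≪≫
      (Scheme.Modules.restrictFunctor κ).mapIso
        ((Groth.Agent.H16.ExactDer.homologyNatIso (Scheme.Modules.restrictFunctor U.ι) i).app
          K).symm ≪≫
      (Scheme.Modules.restrictFunctor κ).mapIso
        ((DerivedCategory.homologyFunctor _ i).mapIso α)
  refine ⟨n, fun i hi => ?_, ?_⟩
  · have hz : IsZero ((tilde.functor Γ(X, W)).obj
        ((DerivedCategory.homologyFunctor (ModuleCat.{u} Γ(X, W)) i).obj ωA)) :=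
      IsZero.of_iso ((Scheme.Modules.restrictFunctor κ).map_isZero
        (isZero_homology_shift_single _ n i hi)) (e1 i)
    have hns : hW.primeIdealOf ⟨x, hxW⟩ ∉ Module.support Γ(X, W)
        ((DerivedCategory.homologyFunctor (ModuleCat.{u} Γ(X, W)) i).obj ωA) := by
      intro h
      have h1 := (nontrivial_stalk_tilde_iff Γ(X, W) _ (hW.primeIdealOf ⟨x, hxW⟩)).2 h
      have h2 := (Groth.Agent.H8.isZero_iff_forall_subsingleton_stalk _).1 hz
        (hW.primeIdealOf ⟨x, hxW⟩)
      exact not_subsingleton_iff_nontrivial.2 h1 h2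
    rw [Groth.Agent.H28.DualPointwise.mem_support_iff_nontrivial_tensor,
      not_nontrivial_iff_subsingleton] at hns
    exact hns
  · have e2 : (tilde.functor Γ(X, W)).obj
        ((DerivedCategory.homologyFunctor (ModuleCat.{u} Γ(X, W)) (-n)).obj ωA) ≅
        (tilde.functor Γ(X, W)).obj (ModuleCat.of Γ(X, W) Γ(X, W)) :=
      e1 (-n) ≪≫ (Scheme.Modules.restrictFunctor κ).mapIso (homologyShiftSingleIso _ n) ≪≫
        Scheme.Modules.restrictUnitIso κ ≪≫ (tildeSelf (R := Γ(X, W))).symm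
    let e3 : (DerivedCategory.homologyFunctor (ModuleCat.{u} Γ(X, W)) (-n)).obj ωA ≅
        ModuleCat.of Γ(X, W) Γ(X, W) := tilde.fullyFaithfulFunctor.preimageIso e2
    exact ⟨(TensorProduct.AlgebraTensorModule.congr
      (LinearEquiv.refl (Localization.AtPrime (hW.primeIdealOf ⟨x, hxW⟩).asIdeal)
        (Localization.AtPrime (hW.primeIdealOf ⟨x, hxW⟩).asIdeal)) e3.toLinearEquiv).trans
      (TensorProduct.AlgebraTensorModule.rid Γ(X, W)
        (Localization.AtPrime (hW.primeIdealOf ⟨x, hxW⟩).asIdeal)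
        (Localization.AtPrime (hW.primeIdealOf ⟨x, hxW⟩).asIdeal))⟩

include hK in
theorem main3620 : Dual3.IsGorenstein X ↔ Dual3.IsInvertibleD K :=
  ⟨invertible_of_gorenstein X K hK, gorenstein_of_invertible X K hK⟩

end

end Groth.Agent.H58.DualSch
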