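import Groth.Agent.H58.DualSch.GorSelf
import Groth.Agent.H58.DualSch.Main3621
import Groth.Agent.H16.ExactDer
import Groth.Prelude.Def_Dual3

/-!
# On a Gorenstein scheme with a dualizing complex, `O_X[0]` is dualizing (helper58)
-/

set_option autoImplicit false
set_option linter.unusedSectionVars false
set_option linter.style.haveILetI false
universe u

open CategoryTheory CategoryTheory.Limits AlgebraicGeometry

attribute [local instance] HasDerivedCategory.standard

namespace Groth.Agent.H58.DualSch

section
variable {X : Scheme.{u}} (R : CommRingCat.{u})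
  (j : Spec (CommRingCat.of R) ⟶ X) [IsOpenImmersion j]
  [PreservesFiniteLimits (Scheme.Modules.restrictFunctor j)]
  [PreservesFiniteLimits (tilde.functor R)]

/-- the restriction of `O_X[0]` to a chart is the derived tilde of `R[0]` -/
noncomputable def restrictStructureIso :
    (DCoh.restrictD j).obj (DCoh.inD X (Coh.structureModule X)) ≅
      (DCoh.tildeD R).obj ((DerivedCategory.singleFunctor (ModuleCat.{u} R) 0).obj
        (ModuleCat.of R R)) :=
  Groth.Agent.H16.ExactDer.singleIso (Scheme.Modules.restrictFunctor j) (Coh.structureModule X) 0 ≪≫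
    (DerivedCategory.singleFunctor _ 0).mapIso
      (Scheme.Modules.restrictUnitIso j ≪≫ (tildeSelf (R := R)).symm) ≪≫
    (Groth.Agent.H16.ExactDer.singleIso (tilde.functor R) (ModuleCat.of R R) 0).symm

end

section
variable (X : Scheme.{u})
  [∀ (U : Scheme.{u}) (j : U ⟶ X) [IsOpenImmersion j],
    PreservesFiniteLimits (Scheme.Modules.restrictFunctor j)]
  [∀ (R : CommRingCat.{u}), PreservesFiniteLimits (tilde.functor R)]

theorem main3622 (hX : Dual3.IsGorenstein X) :
    (∃ K : DCoh.D X, Dual2.IsDualizingSch X K) ↔
      Dual2.IsDualizingSch X (DCoh.inD X (Coh.structureModule X)) := by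
  constructor
  · rintro ⟨K, hK⟩ A _ j _
    obtain ⟨ωA, hωA, -⟩ := hK A j
    haveI : IsNoetherianRing A := hωA.isNoetherianRing
    refine ⟨Dual.inD A A, ?_, ⟨restrictStructureIso (CommRingCat.of A) j⟩⟩
    apply isDualizing_self_of_gorenstein hωA
    intro p hp
    exact (gor_stalk_iff (CommRingCat.of A) j ⟨p, hp⟩).1 (hX.2 _)
  · intro h
    exact ⟨_, h⟩

end

end Groth.Agent.H58.DualSch
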