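import Groth.Agent.H58.DualSch.SkModel
import Groth.Agent.H58.DualSch.CMStalk
import Groth.Agent.H6.RestrictStalk2

/-!
# Stalks of a module which is a tilde on an affine chart, as semilinear models of localizations
(helper58)
-/

set_option autoImplicit false
set_option linter.style.haveILetI false
set_option linter.unusedSectionVars false
universe u

open CategoryTheory CategoryTheory.Limits AlgebraicGeometry

namespace Groth.Agent.H58.DualSch

section
variable {X : Scheme.{u}} (R : CommRingCat.{u})
  (j : Spec (CommRingCat.of R) ⟶ X) [IsOpenImmersion j]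
  (F : X.Modules) (N : ModuleCat.{u} R)
  (θ : (Scheme.Modules.restrictFunctor j).obj F ≅ (tilde.functor R).obj N)
  (p : PrimeSpectrum R)

/-- the tilde stalk as a semilinear model -/
theorem exists_semilinear_tilde_stalk :
    ∃ (σ : Localization.AtPrime p.asIdeal ≃+* (Spec (CommRingCat.of R)).presheaf.stalk p)
      (ψ : LocalizedModule p.asIdeal.primeCompl N ≃+ (tilde N).presheaf.stalk p),
      ∀ (r : Localization.AtPrime p.asIdeal) (x : LocalizedModule p.asIdeal.primeCompl N),
        ψ (r • x) = σ r • ψ x := by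
  letI : Algebra R ((Spec (CommRingCat.of R)).presheaf.stalk p) :=
    StructureSheaf.stalkAlgebra (R := R) p
  haveI : IsLocalization.AtPrime ((Spec (CommRingCat.of R)).presheaf.stalk p) p.asIdeal :=
    StructureSheaf.IsLocalization.to_stalk (R := R) p
  haveI : IsScalarTower R ((Spec (CommRingCat.of R)).presheaf.stalk p)
      ((tilde N).presheaf.stalk p) :=
    IsScalarTower.of_algebraMap_smul (fun r x => rfl)
  exact exists_semilinear_of_isLocalizedModule p.asIdeal
    ((Spec (CommRingCat.of R)).presheaf.stalk p) (tilde.toStalk N p).hom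

include θ in
/-- **stalks on a chart**: if `F|_{Spec R} ≅ N~`, then `(O_{X, j p}, F_{j p})` is semilinearly
isomorphic to `(R_p, N_p)`. -/
theorem exists_semilinear_stalk :
    ∃ (σ : Localization.AtPrime p.asIdeal ≃+* X.presheaf.stalk (j p))
      (ψ : LocalizedModule p.asIdeal.primeCompl N ≃+ F.presheaf.stalk (j p)),
      ∀ (r : Localization.AtPrime p.asIdeal) (x : LocalizedModule p.asIdeal.primeCompl N),
        ψ (r • x) = σ r • ψ x := by
  obtain ⟨σ₀, ψ₀, h₀⟩ := exists_semilinear_tilde_stalk R N p
  let l : (tilde N).presheaf.stalk p ≃ₗ[(Spec (CommRingCat.of R)).presheaf.stalk p]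
      ((Scheme.Modules.restrictFunctor j).obj F).presheaf.stalk p :=
    ((Groth.Agent.H5.Stalk.stalkFunctor (X := Spec (CommRingCat.of R)) p).mapIso
      θ.symm).toLinearEquiv
  refine ⟨σ₀.trans (Groth.Agent.H6.RestrictStalk.stalkRingEquiv j p),
    (ψ₀.trans l.toAddEquiv).trans (Groth.Agent.H6.RestrictStalk.stalkAddEquiv j F p), ?_⟩
  intro r x
  change Groth.Agent.H6.RestrictStalk.stalkAddEquiv j F p (l (ψ₀ (r • x))) =
    Groth.Agent.H6.RestrictStalk.stalkRingEquiv j p (σ₀ r) •
      Groth.Agent.H6.RestrictStalk.stalkAddEquiv j F p (l (ψ₀ x))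
  rw [h₀, map_smul, Groth.Agent.H6.RestrictStalk.stalkAddEquiv_smul]

end

end Groth.Agent.H58.DualSch
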