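import Groth.Agent.H58.DualSch.Stalk2
import Groth.Agent.H58.DualSch.StalkModel
import Groth.Agent.H58.DualSch.BottomTF

/-!
# The dualizing sheaf is `(S_2)` and torsion-free (helper58)
-/

set_option autoImplicit false
set_option linter.unusedSectionVars false
set_option linter.style.haveILetI false
universe u

open CategoryTheory CategoryTheory.Limits AlgebraicGeometry

attribute [local instance] HasDerivedCategory.standard

namespace Groth.Agent.H58.DualSch

/-- stalks of a zero module are trivial -/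
theorem subsingleton_stalk_of_isZero {X : Scheme.{u}} (M : X.Modules) (hM : IsZero M) (x : X) :
    Subsingleton (M.presheaf.stalk x) := by
  refine ⟨fun a b => ?_⟩
  have h0 : ∀ c : M.presheaf.stalk x, c = 0 := by
    intro c
    obtain ⟨U, hxU, s, rfl⟩ := M.presheaf.exists_germ_eq c
    have h1 : (𝟙 M : M ⟶ M) = 0 := hM.eq_of_src _ _
    have h2 : (𝟙 M : M ⟶ M).app U s = (0 : M ⟶ M).app U s := by rw [h1]
    have h3 : s = 0 := by
      simpa using h2
    rw [h3, map_zero]
  rw [h0 a, h0 b]

section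
variable (X : Scheme.{u})
  [∀ (U : Scheme.{u}) (j : U ⟶ X) [IsOpenImmersion j],
    PreservesFiniteLimits (Scheme.Modules.restrictFunctor j)]
  [∀ (R : CommRingCat.{u}), PreservesFiniteLimits (tilde.functor R)]
  (K : DCoh.D X) (hK : Dual2.IsDualizingSch X K) (n : ℤ)
  (hlt : ∀ i : ℤ, i < n → IsZero (DCoh.HD K i))

include hK hlt in
theorem chart7873 (R : CommRingCat.{u}) (j : Spec (CommRingCat.of R) ⟶ X) [IsOpenImmersion j]
    (p : PrimeSpectrum R) :
    LocCoh.HasSk 2 (X.presheaf.stalk (j p)) ((DCoh.HD K n).presheaf.stalk (j p)) ∧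
      (IsIntegral X →
        Module.IsTorsionFree (X.presheaf.stalk (j p)) ((DCoh.HD K n).presheaf.stalk (j p))) := by
  obtain ⟨ωA, hωA, ⟨e⟩⟩ := hK R j
  haveI : IsNoetherianRing R := hωA.isNoetherianRing
  have hvan : ∀ i : ℤ, i < n → Subsingleton (Dual.HD R ωA i) := by
    intro i hi
    rw [← Module.support_eq_empty_iff (R := R)]
    ext P
    simp only [Set.mem_empty_iff_false, iff_false]
    intro hP
    have h1 := (nontrivial_stalk_HD_iff R j K ωA e i P).2 hP
    haveI := subsingleton_stalk_of_isZero (DCoh.HD K i) (hlt i hi) (j P)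
    exact not_subsingleton _ ‹_›
  haveI := hωA.finite_cohomology n
  obtain ⟨σ, ψ, hψ⟩ := exists_semilinear_stalk R j (DCoh.HD K n)
    ((DerivedCategory.homologyFunctor (ModuleCat.{u} R) n).obj ωA) (HDIso R j K ωA e n) p
  haveI : IsNoetherianRing (Localization.AtPrime p.asIdeal) :=
    IsLocalization.isNoetherianRing p.asIdeal.primeCompl _ inferInstance
  haveI : Module.Finite (Localization.AtPrime p.asIdeal)
      (LocalizedModule p.asIdeal.primeCompl (Dual.HD R ωA n)) :=
    Module.Finite.of_isLocalizedModule p.asIdeal.primeCompl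
      (LocalizedModule.mkLinearMap p.asIdeal.primeCompl (Dual.HD R ωA n))
  haveI : Module.Finite (X.presheaf.stalk (j p)) ((DCoh.HD K n).presheaf.stalk (j p)) :=
    Groth.Agent.H6.RestrictStalk.finite_of_semilinear σ ψ hψ
  constructor
  · have h1 : LocCoh.HasSk 2 R (Dual.HD R ωA n) := hasSk_two_HD_bottom hωA n hvan
    have h2 : LocCoh.HasSk 2 (Localization.AtPrime p.asIdeal)
        (LocalizedModule p.asIdeal.primeCompl (Dual.HD R ωA n)) :=
      (Groth.Agent.H29.SkAt.hasSkAt_iff 2 R (Dual.HD R ωA n) p.asIdeal).2 (fun q _ _ => h1 q)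
    exact hasSk_of_semilinear 2 σ ψ hψ h2
  · intro hX
    haveI : Nonempty (Spec (CommRingCat.of R)) := ⟨p⟩
    haveI : IsIntegral (Spec (CommRingCat.of R)) := isIntegral_of_isOpenImmersion j
    haveI : IsDomain R := (affine_isIntegral_iff (CommRingCat.of R)).1 inferInstance
    haveI := isTorsionFree_HD_bottom hωA n hvan
    have h2 : Module.IsTorsionFree (Localization.AtPrime p.asIdeal)
        (LocalizedModule p.asIdeal.primeCompl (Dual.HD R ωA n)) := inferInstance
    exact isTorsionFree_of_semilinear σ ψ hψ h2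

include hK hlt in
theorem main7873 :
    (∀ x : X, LocCoh.HasSk 2 (X.presheaf.stalk x) ((DCoh.HD K n).presheaf.stalk x)) ∧
      (IsIntegral X → ∀ x : X,
        Module.IsTorsionFree (X.presheaf.stalk x) ((DCoh.HD K n).presheaf.stalk x)) := by
  have hx : ∀ x : X, ∃ (R : CommRingCat.{u}) (j : Spec (CommRingCat.of R) ⟶ X)
      (_ : IsOpenImmersion j) (p : PrimeSpectrum R), j p = x := by
    intro x
    obtain ⟨W, hW, hxW, -⟩ := exists_isAffineOpen_mem_and_subset (x := x) (U := ⊤) trivial
    exact ⟨Γ(X, W), hW.fromSpec, inferInstance, hW.primeIdealOf ⟨x, hxW⟩,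
      hW.fromSpec_primeIdealOf ⟨x, hxW⟩⟩
  constructor
  · intro x
    obtain ⟨R, j, hj, p, rfl⟩ := hx x
    exact (chart7873 X K hK n hlt R j p).1
  · intro hX x
    obtain ⟨R, j, hj, p, rfl⟩ := hx x
    exact (chart7873 X K hK n hlt R j p).2 hX

end

end Groth.Agent.H58.DualSch
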