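import Groth.Agent.H58.DualSch.Main1809
import Groth.Agent.H58.DualSch.Main7873

/-!
# A scheme with a dualizing module is Cohen–Macaulay (helper58)
-/

set_option autoImplicit false
set_option linter.unusedSectionVars false
set_option linter.style.haveILetI false
universe u

open CategoryTheory CategoryTheory.Limits AlgebraicGeometry

attribute [local instance] HasDerivedCategory.standard

namespace Groth.Agent.H58.DualSch

open Groth.Agent.H2.DualCx in
/-- some cohomology module of a dualizing complex is supported at `P` -/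
theorem exists_mem_support_HD {A : Type u} [CommRing A] [IsNoetherianRing A] {ω : Dual.D A}
    (hω : Dual.IsDualizing A ω) (P : PrimeSpectrum A) :
    ∃ k : ℤ, P ∈ Module.support A (Dual.HD A ω k) := by
  obtain ⟨k, hk⟩ := exists_mem_support_T_of_mem_support hω A P (mem_support_self P)
  refine ⟨k, ?_⟩
  rw [support_HD_eq_T hω]
  exact hk

section
variable (X : Scheme.{u})
  [∀ (U : Scheme.{u}) (j : U ⟶ X) [IsOpenImmersion j],
    PreservesFiniteLimits (Scheme.Modules.restrictFunctor j)]
  [∀ (R : CommRingCat.{u}), PreservesFiniteLimits (tilde.functor R)]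
  (K : DCoh.D X) (hK : Dual2.IsDualizingSch X K)

include hK in
/-- some cohomology sheaf of a dualizing complex has nonzero stalk at `x` -/
theorem exists_nontrivial_stalk_HD (x : X) :
    ∃ i : ℤ, Nontrivial ((DCoh.HD K i).presheaf.stalk x) := by
  obtain ⟨W, hW, hxW, -⟩ := exists_isAffineOpen_mem_and_subset (x := x) (U := ⊤) trivial
  obtain ⟨ωA, hωA, ⟨e⟩⟩ := hK Γ(X, W) hW.fromSpec
  haveI : IsNoetherianRing Γ(X, W) := hωA.isNoetherianRing
  have hx : hW.fromSpec (hW.primeIdealOf ⟨x, hxW⟩) = x := hW.fromSpec_primeIdealOf ⟨x, hxW⟩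
  obtain ⟨k, hk⟩ := exists_mem_support_HD hωA (hW.primeIdealOf ⟨x, hxW⟩)
  refine ⟨k, ?_⟩
  rw [← hx]
  exact (nontrivial_stalk_HD_iff Γ(X, W) hW.fromSpec K ωA e k (hW.primeIdealOf ⟨x, hxW⟩)).2 hk

end

section
variable (X : Scheme.{u})
  [∀ (U : Scheme.{u}) (j : U ⟶ X) [IsOpenImmersion j],
    PreservesFiniteLimits (Scheme.Modules.restrictFunctor j)]
  [∀ (R : CommRingCat.{u}), PreservesFiniteLimits (tilde.functor R)]
  (ω : X.Modules) (hD : Dual2.IsDualizingSch X (DCoh.inD X ω))

include hD in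
theorem main3675 (x : X) : LocCoh.IsCohenMacaulayLocalRing (X.presheaf.stalk x) := by
  have hz : ∀ i : ℤ, i ≠ 0 → IsZero (DCoh.HD (DCoh.inD X ω) i) := by
    intro i hi
    rcases lt_or_gt_of_ne hi with h | h
    · exact DerivedCategory.isZero_of_isGE (DCoh.inD X ω) 0 i h
    · exact DerivedCategory.isZero_of_isLE (DCoh.inD X ω) 0 i h
  rw [(main1809 X (DCoh.inD X ω) hD).1 x]
  obtain ⟨i, hi⟩ := exists_nontrivial_stalk_HD X (DCoh.inD X ω) hD x
  have h0 : ∀ k : ℤ, Nontrivial ((DCoh.HD (DCoh.inD X ω) k).presheaf.stalk x) → k = 0 := by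
    intro k hk
    by_contra hne
    haveI := subsingleton_stalk_of_isZero (DCoh.HD (DCoh.inD X ω) k) (hz k hne) x
    exact not_subsingleton _ ‹_›
  exact ⟨i, hi, fun k hk => by rw [h0 k hk, h0 i hi]⟩

end

end Groth.Agent.H58.DualSch
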