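import Mathlib
import Groth.Agent.H11.ReflS2

/-!
# Torsion-free `(S_2)` modules over normal Noetherian domains are reflexive (helper58)
-/

set_option autoImplicit false
set_option linter.style.haveILetI false
set_option linter.unusedSectionVars false
universe u

namespace Groth.Agent.H58.DualSch

variable (B : Type u) [CommRing B] [IsDomain B] [IsNoetherianRing B] [IsIntegrallyClosed B]
  (M : Type u) [AddCommGroup M] [Module B M] [Module.Finite B M] [Module.IsTorsionFree B M]

/-- the support of a nonzero torsion-free module over a domain is everything -/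
theorem support_eq_univ_of_isTorsionFree [Nontrivial M] : Module.support B M = Set.univ := by
  rw [Set.eq_univ_iff_forall]
  intro p
  obtain ⟨m, hm⟩ := exists_ne (0 : M)
  rw [Module.mem_support_iff']
  refine ⟨m, fun r hr h0 => ?_⟩
  rcases smul_eq_zero.mp h0 with h | h
  · exact hr (h ▸ p.asIdeal.zero_mem)
  · exact hm h

theorem isReflexive_of_hasSk_two (h : LocCoh.HasSk 2 B M) : Module.IsReflexive B M := by
  by_cases hM : Subsingleton M
  · haveI : Subsingleton (Module.Dual B (Module.Dual B M)) :=
      ⟨fun a b => LinearMap.ext fun f => by
        have hf : f = 0 := LinearMap.ext fun x => by rw [Subsingleton.elim x 0]; simp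
        rw [hf]; simp⟩
    exact ⟨⟨fun a b _ => Subsingleton.elim a b, fun y => ⟨0, Subsingleton.elim _ _⟩⟩⟩
  rw [not_subsingleton_iff_nontrivial] at hM
  have hsupp := support_eq_univ_of_isTorsionFree B M
  have h' := (Groth.Agent.H14.ZClos.hasSk_iff 2 hsupp).mp h
  apply Groth.Agent.H34.isReflexive_of_forall_reflexive_or_depth
  intro p hp
  by_cases hht : p.height ≤ 1
  · left
    haveI := Groth.Agent.H11.ReflS2.isPrincipalIdealRing_of_height_le_one p hht
    haveI : Module.Finite (Localization.AtPrime p) (LocalizedModule p.primeCompl M) :=
      Module.Finite.of_isLocalizedModule p.primeCompl (LocalizedModule.mkLinearMap p.primeCompl M)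
    haveI : Module.Free (Localization.AtPrime p) (LocalizedModule p.primeCompl M) :=
      Module.free_of_finite_type_torsion_free'
    infer_instance
  · right
    have h2 : (2 : ℕ∞) ≤ p.height := by
      rw [not_le] at hht
      have : (2 : ℕ∞) = 1 + 1 := by norm_num
      rw [this]
      exact Order.add_one_le_of_lt hht
    have := h' p
    rwa [Nat.cast_ofNat, min_eq_left h2] at this

end Groth.Agent.H58.DualSch
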