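import Groth.Agent.H58.DualSch.Main7873
import Groth.Agent.H58.DualSch.BottomTFLoc
import Groth.Agent.H58.DualSch.ReflS2
import Groth.Prelude.Def_Pi1

/-!
# The dualizing sheaf of a normal scheme is reflexive (helper58)
-/

set_option autoImplicit false
set_option linter.unusedSectionVars false
set_option linter.style.haveILetI false
universe u

open CategoryTheory CategoryTheory.Limits AlgebraicGeometry

attribute [local instance] HasDerivedCategory.standard

namespace Groth.Agent.H58.DualSch

section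
variable (X : Scheme.{u})
  [∀ (U : Scheme.{u}) (j : U ⟶ X) [IsOpenImmersion j],
    PreservesFiniteLimits (Scheme.Modules.restrictFunctor j)]
  [∀ (R : CommRingCat.{u}), PreservesFiniteLimits (tilde.functor R)]
  (K : DCoh.D X) (hK : Dual2.IsDualizingSch X K) (n : ℤ)
  (hlt : ∀ i : ℤ, i < n → IsZero (DCoh.HD K i))

include hK hlt in
theorem chart7877 (R : CommRingCat.{u}) (j : Spec (CommRingCat.of R) ⟶ X) [IsOpenImmersion j]
    (p : PrimeSpectrum R) [IsDomain (X.presheaf.stalk (j p))]
    [IsIntegrallyClosed (X.presheaf.stalk (j p))] :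
    Module.IsReflexive (X.presheaf.stalk (j p)) ((DCoh.HD K n).presheaf.stalk (j p)) := by
  have hS2 := (chart7873 X K hK n hlt R j p).1
  obtain ⟨ωA, hωA, ⟨e⟩⟩ := hK R j
  haveI : IsNoetherianRing R := hωA.isNoetherianRing
  have hvan : ∀ i : ℤ, i < n → Subsingleton (Dual.HD R ωA i) := by
    intro i hi
    rw [← Module.support_eq_empty_iff (R := R)]
    ext P
    simp only [Set.mem_empty_iff_false, iff_false]
    intro hP
    have h1 := (nontrivial_stalk_HD_iff R j K ωA e i P).2 hP
    haveI := subsingleton_stalk_of_isZero (DCoh.HD K i) (hlt i hi) (j P)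
    exact not_subsingleton _ ‹_›
  haveI := hωA.finite_cohomology n
  obtain ⟨σ, ψ, hψ⟩ := exists_semilinear_stalk R j (DCoh.HD K n)
    ((DerivedCategory.homologyFunctor (ModuleCat.{u} R) n).obj ωA) (HDIso R j K ωA e n) p
  haveI : IsNoetherianRing (Localization.AtPrime p.asIdeal) :=
    IsLocalization.isNoetherianRing p.asIdeal.primeCompl _ inferInstance
  haveI : Module.Finite (Localization.AtPrime p.asIdeal)
      (LocalizedModule p.asIdeal.primeCompl (Dual.HD R ωA n)) :=
    Module.Finite.of_isLocalizedModule p.asIdeal.primeCompl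
      (LocalizedModule.mkLinearMap p.asIdeal.primeCompl (Dual.HD R ωA n))
  haveI : Module.Finite (X.presheaf.stalk (j p)) ((DCoh.HD K n).presheaf.stalk (j p)) :=
    Groth.Agent.H6.RestrictStalk.finite_of_semilinear σ ψ hψ
  haveI : IsNoetherianRing (X.presheaf.stalk (j p)) :=
    isNoetherianRing_of_ringEquiv (Localization.AtPrime p.asIdeal) σ
  haveI : IsDomain (Localization.AtPrime p.asIdeal) := MulEquiv.isDomain _ σ.toMulEquiv
  have hTF0 := isTorsionFree_localized_HD_bottom hωA n hvan p.asIdeal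
  haveI : Module.IsTorsionFree (X.presheaf.stalk (j p)) ((DCoh.HD K n).presheaf.stalk (j p)) :=
    isTorsionFree_of_semilinear σ ψ hψ hTF0
  exact isReflexive_of_hasSk_two _ _ hS2

include hK hlt in
theorem main7877 (hX : Pi1.IsNormalScheme X) :
    ∀ x : X, Module.IsReflexive (X.presheaf.stalk x) ((DCoh.HD K n).presheaf.stalk x) := by
  intro x
  obtain ⟨W, hW, hxW, -⟩ := exists_isAffineOpen_mem_and_subset (x := x) (U := ⊤) trivial
  have hx : hW.fromSpec (hW.primeIdealOf ⟨x, hxW⟩) = x := hW.fromSpec_primeIdealOf ⟨x, hxW⟩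
  haveI := (hX (hW.fromSpec (hW.primeIdealOf ⟨x, hxW⟩))).1
  haveI := (hX (hW.fromSpec (hW.primeIdealOf ⟨x, hxW⟩))).2
  have := chart7877 X K hK n hlt Γ(X, W) hW.fromSpec (hW.primeIdealOf ⟨x, hxW⟩)
  rwa [hx] at this

end

end Groth.Agent.H58.DualSch
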