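import Groth.Agent.H2.DualCx.PLocalCM
import Groth.Agent.H2.DualCx.Support3
import Groth.Agent.S0372

/-!
# Ring level: Cohen–Macaulay points via the cohomology of a dualizing complex (helper58)

For a Noetherian ring `A` with dualizing complex `ω` and a prime `P`: `A_P` is Cohen–Macaulay iff
`P ∈ Supp H^i(ω)` for exactly one `i`.  (Repackaging of helper2's `PLocalCM`.)
-/

set_option autoImplicit false
set_option linter.unusedSectionVars false
universe u

open CategoryTheory

attribute [local instance] HasDerivedCategory.standard

namespace Groth.Agent.H58.DualSch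

open Groth.Agent.H2.DualCx

variable {A : Type u} [CommRing A] [IsNoetherianRing A] {ω : Dual.D A}

theorem mem_support_self (P : PrimeSpectrum A) : P ∈ Module.support A A := by
  rw [Module.mem_support_iff']
  refine ⟨1, fun r hr h0 => hr ?_⟩
  rw [smul_eq_mul, mul_one] at h0
  rw [h0]
  exact P.asIdeal.zero_mem

theorem support_HD_eq_T (hω : Dual.IsDualizing A ω) (j : ℤ) :
    Module.support A (Dual.HD A ω j) = Module.support A (T ω j A) := by
  haveI := hω.finite_cohomology j
  exact support_HD_eq ω j

/-- `A_P` is Cohen–Macaulay iff exactly one `H^i(ω)` has `P` in its support. -/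
theorem cm_iff_existsUnique (hω : Dual.IsDualizing A ω) (P : PrimeSpectrum A) :
    LocCoh.IsCohenMacaulayLocalRing (Localization.AtPrime P.asIdeal) ↔
      ∃! i : ℤ, P ∈ Module.support A (Dual.HD A ω i) := by
  have key : LocCoh.IsCohenMacaulayLocalRing (Localization.AtPrime P.asIdeal) ↔
      ∀ i j : ℤ, P ∈ Module.support A (T ω i A) → P ∈ Module.support A (T ω j A) → i = j := by
    rw [← isCohenMacaulayModule_localizedModule_iff hω A P (mem_support_self P)]
    constructor
    · intro h
      exact h.supportDim_eq_depth
    · intro h
      exact { supportDim_eq_depth := h }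
  rw [key]
  obtain ⟨k, hk⟩ := exists_mem_support_T_of_mem_support hω A P (mem_support_self P)
  constructor
  · intro h
    refine ⟨k, ?_, ?_⟩
    · show P ∈ Module.support A (Dual.HD A ω k)
      rw [support_HD_eq_T hω]
      exact hk
    · intro i hi
      have hi' : P ∈ Module.support A (Dual.HD A ω i) := hi
      rw [support_HD_eq_T hω] at hi'
      exact h i k hi' hk
  · rintro ⟨i0, -, huniq⟩ i j hi hj
    rw [← support_HD_eq_T hω] at hi hj
    rw [huniq i hi, huniq j hj]

/-- the Cohen–Macaulay locus of `Spec A` is open when `A` has a dualizing complex -/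
theorem isOpen_cm (hω : Dual.IsDualizing A ω) :
    IsOpen {p : PrimeSpectrum A |
      LocCoh.IsCohenMacaulayLocalRing (Localization.AtPrime p.asIdeal)} :=
  (Groth.Agent.S0372.result A ω hω).1

end Groth.Agent.H58.DualSch
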