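import Groth.Agent.H58.DualSch.SkTransfer

/-!
# `(S_k)` and torsion-freeness in arbitrary models of a localization (helper58)
-/

set_option autoImplicit false
set_option linter.style.haveILetI false
set_option linter.unusedSectionVars false
universe u

namespace Groth.Agent.H58.DualSch

section model

variable {A : Type u} [CommRing A] (p : Ideal A) [p.IsPrime]
  (S : Type u) [CommRing S] [Algebra A S] [IsLocalization.AtPrime S p]
  {N : Type u} [AddCommGroup N] [Module A N]
  {N' : Type u} [AddCommGroup N'] [Module A N'] [Module S N'] [IsScalarTower A S N']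
  (f : N →ₗ[A] N') [IsLocalizedModule p.primeCompl f]

include f

/-- the canonical semilinear isomorphism `(A_p, N_p) ≃ (S, N')` for any model of the localization -/
theorem exists_semilinear_of_isLocalizedModule :
    ∃ (e : Localization.AtPrime p ≃+* S) (ψ : LocalizedModule p.primeCompl N ≃+ N'),
      ∀ (r : Localization.AtPrime p) (x : LocalizedModule p.primeCompl N),
        ψ (r • x) = e r • ψ x := by
  let e : Localization.AtPrime p ≃ₐ[A] S := IsLocalization.algEquiv p.primeCompl _ _
  letI : Module (Localization.AtPrime p) N' := Module.compHom N' (e : Localization.AtPrime p →+* S)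
  haveI : IsScalarTower A (Localization.AtPrime p) N' := by
    refine IsScalarTower.of_algebraMap_smul (fun r x => ?_)
    change e (algebraMap A (Localization.AtPrime p) r) • x = r • x
    rw [e.commutes, algebraMap_smul]
  let ψ : LocalizedModule p.primeCompl N ≃ₗ[A] N' := IsLocalizedModule.iso p.primeCompl f
  let ψ' := LinearEquiv.extendScalarsOfIsLocalization p.primeCompl (Localization.AtPrime p) ψ
  exact ⟨e.toRingEquiv, ψ'.toAddEquiv, fun r x => ψ'.map_smul r x⟩

/-- `(S_k)` for `N` over `A` passes to any model `(S, N')` of the localization at a prime -/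
theorem hasSk_of_isLocalizedModule [IsNoetherianRing A] [Module.Finite A N] (k : ℕ)
    (h : LocCoh.HasSk k A N) (_hf : IsLocalizedModule p.primeCompl f) : LocCoh.HasSk k S N' := by
  obtain ⟨e, ψ, hψ⟩ := exists_semilinear_of_isLocalizedModule p S f
  have h1 : LocCoh.HasSk k (Localization.AtPrime p) (LocalizedModule p.primeCompl N) :=
    (Groth.Agent.H29.SkAt.hasSkAt_iff k A N p).2 (fun q _ _ => h q)
  haveI : IsNoetherianRing (Localization.AtPrime p) :=
    IsLocalization.isNoetherianRing p.primeCompl _ inferInstance
  haveI : Module.Finite S N' := Module.Finite.of_isLocalizedModule p.primeCompl f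
  exact hasSk_of_semilinear k e ψ hψ h1

end model

section torsionfree

variable {R S : Type u} [CommRing R] [CommRing S]
  {M N : Type u} [AddCommGroup M] [Module R M] [AddCommGroup N] [Module S N]

/-- torsion-freeness is invariant under semilinear isomorphisms -/
theorem isTorsionFree_of_semilinear (σ : R ≃+* S) (φ : M ≃+ N)
    (hφ : ∀ (r : R) (x : M), φ (r • x) = σ r • φ x) (h : Module.IsTorsionFree R M) :
    Module.IsTorsionFree S N := by
  refine ⟨fun s hs y y' hyy' => ?_⟩
  have hr : IsRegular (σ.symm s) := by
    rw [← isLeftRegular_iff_isRegular]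
    intro a b hab
    have h0 : s * σ a = s * σ b := by
      have := congrArg σ hab
      simpa using this
    exact σ.injective (hs.left h0)
  obtain ⟨x, rfl⟩ := φ.surjective y
  obtain ⟨x', rfl⟩ := φ.surjective y'
  have h1 : φ (σ.symm s • x) = φ (σ.symm s • x') := by
    rw [hφ, hφ, RingEquiv.apply_symm_apply]
    exact hyy'
  have h2 := h.isSMulRegular hr (φ.injective h1)
  rw [h2]

end torsionfree

end Groth.Agent.H58.DualSch
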