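import Groth.Agent.H29.LocTrans
import Groth.Agent.H29.SkAt

/-!
# Transfer of Serre's condition `(S_k)` along semilinear isomorphisms (helper58)

* `exists_semilinear_localization`: for a ring isomorphism `σ : R ≃+* S`, a `σ`-semilinear additive
  equivalence `φ : M ≃+ N` and a prime `q'` of `S` with `q = σ⁻¹ q'`, the localizations `M_q` and
  `N_{q'}` are semilinearly isomorphic over a ring isomorphism `R_q ≃+* S_{q'}`.
* `hasSk_of_semilinear`: `(S_k)` for `(R, M)` implies `(S_k)` for `(S, N)`.
* `hasSk_of_isLocalizedModule`: `(S_k)` passes to any model of the localization at a prime.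
-/

set_option autoImplicit false
set_option linter.style.haveILetI false
set_option linter.unusedSectionVars false
universe u

namespace Groth.Agent.H58.DualSch

open IsLocalRing

section semilinear

variable {R S : Type u} [CommRing R] [CommRing S]
  {M N : Type u} [AddCommGroup M] [Module R M] [AddCommGroup N] [Module S N]

theorem exists_semilinear_localization (σ : R ≃+* S) (φ : M ≃+ N)
    (hφ : ∀ (r : R) (x : M), φ (r • x) = σ r • φ x) (q' : Ideal S) [q'.IsPrime] :
    ∃ (e : Localization.AtPrime (q'.comap (σ : R →+* S)) ≃+* Localization.AtPrime q')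
      (ψ : LocalizedModule (q'.comap (σ : R →+* S)).primeCompl M ≃+
        LocalizedModule q'.primeCompl N),
      ∀ (r : Localization.AtPrime (q'.comap (σ : R →+* S)))
        (x : LocalizedModule (q'.comap (σ : R →+* S)).primeCompl M), ψ (r • x) = e r • ψ x := by
  set q := q'.comap (σ : R →+* S) with hq
  have H : q.primeCompl.map (σ : R ≃* S) = q'.primeCompl := by
    ext x
    constructor
    · rintro ⟨y, hy, rfl⟩
      exact hy
    · intro hx
      refine ⟨σ.symm x, ?_, by simp⟩
      intro hmem
      apply hx
      have : σ (σ.symm x) ∈ q' := hmem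
      simpa using this
  let e : Localization.AtPrime q ≃+* Localization.AtPrime q' :=
    IsLocalization.ringEquivOfRingEquiv (Localization.AtPrime q) (Localization.AtPrime q') σ H
  have he : ∀ r : R, e (algebraMap R (Localization.AtPrime q) r) =
      algebraMap S (Localization.AtPrime q') (σ r) := fun r =>
    IsLocalization.ringEquivOfRingEquiv_eq _ _
  -- module structures through `σ`
  letI : Algebra R S := (σ : R →+* S).toAlgebra
  letI : Module R N := Module.compHom N (σ : R →+* S)
  haveI : IsScalarTower R S N := ⟨fun r s y => by
    change (σ r * s) • y = σ r • (s • y)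
    rw [mul_smul]⟩
  let l : M ≃ₗ[R] N :=
    { φ with
      map_smul' := fun r x => by
        change φ (r • x) = σ r • φ x
        exact hφ r x }
  have hsub : Algebra.algebraMapSubmonoid S q.primeCompl = q'.primeCompl := H
  haveI h1 : IsLocalizedModule (Algebra.algebraMapSubmonoid S q.primeCompl)
      (LocalizedModule.mkLinearMap q'.primeCompl N) := by
    rw [hsub]
    infer_instance
  haveI h2 : IsLocalizedModule q.primeCompl
      ((LocalizedModule.mkLinearMap q'.primeCompl N).restrictScalars R) :=
    IsLocalizedModule.restrictScalars q.primeCompl _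
  haveI h3 : IsLocalizedModule q.primeCompl
      (((LocalizedModule.mkLinearMap q'.primeCompl N).restrictScalars R) ∘ₗ l.toLinearMap) :=
    IsLocalizedModule.of_linearEquiv_right q.primeCompl _ l
  let ψ := IsLocalizedModule.linearEquiv q.primeCompl (LocalizedModule.mkLinearMap q.primeCompl M)
    (((LocalizedModule.mkLinearMap q'.primeCompl N).restrictScalars R) ∘ₗ l.toLinearMap)
  letI : Module (Localization.AtPrime q) (LocalizedModule q'.primeCompl N) :=
    Module.compHom _ (e : Localization.AtPrime q →+* Localization.AtPrime q')
  haveI : IsScalarTower R (Localization.AtPrime q) (LocalizedModule q'.primeCompl N) :=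
    ⟨fun b r y => by
      change e (b • r) • y = b • (e r • y)
      rw [Algebra.smul_def, map_mul, he, mul_smul, algebraMap_smul]
      exact (algebraMap_smul S b (e r • y))⟩
  let ψ' := LinearEquiv.extendScalarsOfIsLocalization q.primeCompl (Localization.AtPrime q) ψ
  exact ⟨e, ψ'.toAddEquiv, fun r x => ψ'.map_smul r x⟩

variable [IsNoetherianRing R] [Module.Finite S N]

/-- `(S_k)` is invariant under semilinear isomorphisms -/
theorem hasSk_of_semilinear (k : ℕ) (σ : R ≃+* S) (φ : M ≃+ N)
    (hφ : ∀ (r : R) (x : M), φ (r • x) = σ r • φ x) (h : LocCoh.HasSk k R M) :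
    LocCoh.HasSk k S N := by
  intro q' hq'
  obtain ⟨e, ψ, hψ⟩ := exists_semilinear_localization σ φ hφ q'
  have h1 := h (q'.comap (σ : R →+* S))
  haveI : IsNoetherianRing (Localization.AtPrime (q'.comap (σ : R →+* S))) :=
    IsLocalization.isNoetherianRing (q'.comap (σ : R →+* S)).primeCompl _ inferInstance
  haveI : Module.Finite (Localization.AtPrime q') (LocalizedModule q'.primeCompl N) :=
    Module.Finite.of_isLocalizedModule q'.primeCompl
      (LocalizedModule.mkLinearMap q'.primeCompl N)
  rw [Groth.Agent.H29.LocTrans.supportDim_eq_of_semilinear e ψ hψ,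
    Groth.Agent.H29.LocTrans.depth_eq_of_semilinear e ψ hψ] at h1
  exact h1

end semilinear

end Groth.Agent.H58.DualSch
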