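import Groth.Agent.H28.GorLocus

/-!
# Spreading out the Gorenstein property in terms of a dualizing complex (helper58)

Extracted from the proof of `Groth.Agent.H28.GorLocus.isOpen_gorenstein_locus`.
-/

set_option autoImplicit false
universe u
open CategoryTheory Limits Pretriangulated DerivedCategory TensorProduct

namespace Groth.Agent.H58.DualSch

open Groth.Agent.H26.FlatBCHom Groth.Agent.H26.FlatBCDual Groth.Agent.H2.DualCx
open Groth.Agent.H28.GorLocus Groth.Agent.H28.DualPointwise

attribute [local instance] HasDerivedCategory.standard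

variable {A : Type u} [CommRing A] [IsNoetherianRing A]

theorem exists_spread (ω : Dual.D A) (hω : Dual.IsDualizing A ω) (p : PrimeSpectrum A)
    (hp : LocCoh.IsGorensteinLocalRing (Localization.AtPrime p.asIdeal)) :
    ∃ (k : ℤ) (φ : A →ₗ[A] Dual.HD A ω (-k)) (D : Set (PrimeSpectrum A)), IsOpen D ∧ p ∈ D ∧
      ∀ q ∈ D, (∀ i : ℤ, i ≠ -k → q ∉ Module.support A (Dual.HD A ω i)) ∧
        q ∉ Module.support A (LinearMap.ker φ) ∧
        q ∉ Module.support A (Dual.HD A ω (-k) ⧸ LinearMap.range φ) := by
  obtain ⟨a, b, hGE, hLE, -⟩ := exists_bounds ω hω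
  have hfin := hω.finite_cohomology
  rw [gorenstein_at_iff ω hω p] at hp
  obtain ⟨k, hvan, ⟨e⟩⟩ := hp
  haveI := hfin (-k)
  -- a global generator
  obtain ⟨⟨x, s⟩, hxs⟩ := IsLocalizedModule.surj p.asIdeal.primeCompl
    (TensorProduct.mk A (Localization.AtPrime p.asIdeal) (Dual.HD A ω (-k)) 1) (e.symm 1)
  let φ : A →ₗ[A] Dual.HD A ω (-k) := LinearMap.toSpanSingleton A _ x
  have hu : IsUnit (algebraMap A (Localization.AtPrime p.asIdeal) s) :=
    IsLocalization.map_units _ s
  have hex : e ((1 : Localization.AtPrime p.asIdeal) ⊗ₜ[A] x) =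
      algebraMap A (Localization.AtPrime p.asIdeal) s := by
    have h1 : (1 : Localization.AtPrime p.asIdeal) ⊗ₜ[A] x =
        (algebraMap A (Localization.AtPrime p.asIdeal) s) • e.symm 1 := by
      rw [algebraMap_smul]
      exact hxs.symm
    rw [h1, map_smul, LinearEquiv.apply_symm_apply, smul_eq_mul, mul_one]
  -- `φ` localized at `p` is bijective
  have hbij : Function.Bijective (φ.lTensor (Localization.AtPrime p.asIdeal)) := by
    rw [← LinearMap.baseChange_eq_ltensor]
    have hcomp : (e ∘ (φ.baseChange (Localization.AtPrime p.asIdeal)) ∘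
        (TensorProduct.AlgebraTensorModule.rid A (Localization.AtPrime p.asIdeal)
          (Localization.AtPrime p.asIdeal)).symm) =
        fun c : Localization.AtPrime p.asIdeal => c * (hu.unit : Localization.AtPrime p.asIdeal) := by
      funext c
      simp only [Function.comp_apply, TensorProduct.AlgebraTensorModule.rid_symm_apply,
        LinearMap.baseChange_tmul, IsUnit.unit_spec]
      have h2 : c ⊗ₜ[A] (φ 1) = c • ((1 : Localization.AtPrime p.asIdeal) ⊗ₜ[A] x) := by
        rw [TensorProduct.smul_tmul', smul_eq_mul, mul_one]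
        congr 1
        simp [φ]
      rw [h2, map_smul, hex, smul_eq_mul]
    have hb : Function.Bijective (e ∘ (φ.baseChange (Localization.AtPrime p.asIdeal)) ∘
        (TensorProduct.AlgebraTensorModule.rid A (Localization.AtPrime p.asIdeal)
          (Localization.AtPrime p.asIdeal)).symm) := by
      rw [hcomp]
      exact (Units.mulRight hu.unit).bijective
    have hb2 := (EquivLike.comp_bijective _ e).mp hb
    exact (EquivLike.bijective_comp _ _).mp hb2
  obtain ⟨hK, hC⟩ := subsingleton_of_lTensor_bijective (Localization.AtPrime p.asIdeal) φ hbij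
  -- closed sets
  let Z₁ : Set (PrimeSpectrum A) :=
    ⋃ i ∈ ((Finset.Icc a b).filter (· ≠ -k) : Finset ℤ), Module.support A (Dual.HD A ω i)
  let Z₂ : Set (PrimeSpectrum A) := Module.support A (LinearMap.ker φ) ∪
    Module.support A (Dual.HD A ω (-k) ⧸ LinearMap.range φ)
  have hZ₁ : IsClosed Z₁ := by
    apply Set.Finite.isClosed_biUnion (Finset.finite_toSet _)
    intro i _
    haveI := hfin i
    exact Module.isClosed_support
  have hZ₂ : IsClosed Z₂ := Module.isClosed_support.union Module.isClosed_support
  refine ⟨k, φ, (Z₁ ∪ Z₂)ᶜ, (hZ₁.union hZ₂).isOpen_compl, ?_, ?_⟩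
  · rw [Set.mem_compl_iff, Set.mem_union, not_or]
    constructor
    · intro h
      obtain ⟨i, hi, hpi⟩ := Set.mem_iUnion₂.mp h
      have hi' : i ≠ -k := by
        have := Finset.mem_filter.mp hi
        exact this.2
      rw [mem_support_iff_nontrivial_tensor] at hpi
      exact not_subsingleton_iff_nontrivial.mpr hpi (hvan i hi')
    · intro h
      rcases h with h | h
      · rw [mem_support_iff_nontrivial_tensor] at h
        exact not_subsingleton_iff_nontrivial.mpr h hK
      · rw [mem_support_iff_nontrivial_tensor] at h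
        exact not_subsingleton_iff_nontrivial.mpr h hC
  · intro q hq
    rw [Set.mem_compl_iff, Set.mem_union, not_or] at hq
    refine ⟨?_, fun h => hq.2 (Or.inl h), fun h => hq.2 (Or.inr h)⟩
    intro i hi
    by_cases hab : a ≤ i ∧ i ≤ b
    · exact fun h => hq.1 (Set.mem_biUnion (by simp [hab, hi]) h)
    · haveI : Subsingleton (Dual.HD A ω i) := by
        apply ModuleCat.subsingleton_of_isZero
        by_cases ha : i < a
        · exact (DerivedCategory.isGE_iff ω a).mp hGE i ha
        · exact (DerivedCategory.isLE_iff ω b).mp hLE i (by omega)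
      rw [Module.support_eq_empty]
      exact Set.notMem_empty q

end Groth.Agent.H58.DualSch
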