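import Groth.Prelude.Def_DualSch
import Groth.Agent.H16.ExactDer
import Groth.Agent.H6.RestrictStalk

/-!
# Stalks of cohomology sheaves of a complex which is affine-locally a derived tilde (helper58)
-/

set_option autoImplicit false
set_option linter.unusedSectionVars false
universe u

open CategoryTheory CategoryTheory.Limits AlgebraicGeometry

attribute [local instance] HasDerivedCategory.standard

namespace Groth.Agent.H58.DualSch

section
variable {X : Scheme.{u}} (R : CommRingCat.{u})
  (j : Spec (CommRingCat.of R) ⟶ X) [IsOpenImmersion j]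
  [PreservesFiniteLimits (Scheme.Modules.restrictFunctor j)]
  [PreservesFiniteLimits (tilde.functor R)]
  (K : DCoh.D X) (ω : DerivedCategory (ModuleCat.{u} R))
  (e : (DCoh.restrictD j).obj K ≅ (DCoh.tildeD R).obj ω)

/-- `H^i(K)|_{Spec A} ≅ (H^i ω)~`. -/
noncomputable def HDIso (i : ℤ) :
    (Scheme.Modules.restrictFunctor j).obj (DCoh.HD K i) ≅
      (tilde.functor R).obj ((DerivedCategory.homologyFunctor (ModuleCat.{u} R) i).obj ω) :=
  ((Groth.Agent.H16.ExactDer.homologyNatIso (Scheme.Modules.restrictFunctor j) i).app K).symm ≪≫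
    (DerivedCategory.homologyFunctor _ i).mapIso e ≪≫
    (Groth.Agent.H16.ExactDer.homologyNatIso (tilde.functor R) i).app ω

/-- the stalk of `M~` at `p` is nontrivial iff `p ∈ Supp M` -/
theorem nontrivial_stalk_tilde_iff (M : ModuleCat.{u} R) (p : PrimeSpectrum R) :
    Nontrivial ((tilde M).presheaf.stalk p) ↔ p ∈ Module.support R M := by
  rw [Module.mem_support_iff]
  exact (IsLocalizedModule.iso p.asIdeal.primeCompl (tilde.toStalk M p).hom).toEquiv.nontrivial_congr.symm

end

end Groth.Agent.H58.DualSch
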